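import Cfsg.Agent.S0157
import Cfsg.Agent.S1556
import Cfsg.Agent.S0360
import Cfsg.Agent.S2064
import Cfsg.Agent.H715.Fpr.MathData
import Cfsg.Agent.KFacts.M24Two.Out
import Cfsg.Agent.H488.HT.Tool

/-!
# S4933: the row `s.M24.3` (helper188)

The permutation character on the 759 octads minus the one on the 276 pairs of points has norm `4 - 2 * 3 + 3 = 1`.

* `card_orbits_le`, `le_card_orbits` : the number of orbits, by representatives and by invariants;
* `exists_483` : the character of degree 483;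
* `row_m24_3` : the row (the characters outside the principal 3-block have degree divisible by `9`).
-/

set_option autoImplicit false

open Cfsg
open scoped Pointwise ComplexConjugate

namespace Cfsg.Agent.H188.HT.M24

open Cfsg.Agent.Characters.Core Cfsg.Agent.SporadicA.GolayBase Cfsg.Agent.SporadicStructure.OctadOrbits

/-- the permutation character -/
noncomputable def pC (H : Type*) [Group H] (X : Type*) [MulAction H X] : H → ℂ :=
  fun h => (Nat.card (MulAction.fixedBy X h) : ℂ)

theorem pC_one (H : Type*) [Group H] (X : Type*) [MulAction H X] : pC H X 1 = (Nat.card X : ℂ) := by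
  rw [pC]
  congr 1
  refine Nat.card_congr ⟨fun x => x.1, fun x => ⟨x, ?_⟩, fun x => rfl, fun x => rfl⟩
  rw [MulAction.mem_fixedBy, one_smul]

/-- The inner product of permutation characters. -/
theorem classInner_pC (H : Type*) [Group H] [Fintype H] (X Y : Type*) [Finite X] [Finite Y] [MulAction H X]
    [MulAction H Y] :
    classInner (pC H X) (pC H Y) = ((Nat.card (MulAction.orbitRel.Quotient H (X × Y)) : ℕ) : ℂ) := by
  classical
  have := Fintype.ofFinite X
  have := Fintype.ofFinite Y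
  obtain ⟨q, hq⟩ : ∃ q, q = Nat.card (MulAction.orbitRel.Quotient H (X × Y)) := ⟨_, rfl⟩
  rw [classInner_def, ← hq]
  have := Fintype.ofFinite (MulAction.orbitRel.Quotient H (X × Y))
  have h5 := MulAction.sum_card_fixedBy_eq_card_orbits_mul_card_group H (X × Y)
  have h6 : ∀ n : H, Fintype.card (MulAction.fixedBy (X × Y) n) =
      Nat.card (MulAction.fixedBy X n) * Nat.card (MulAction.fixedBy Y n) := by
    intro n
    rw [← Nat.card_eq_fintype_card, ← Nat.card_prod]
    refine Nat.card_congr ⟨fun x => (⟨x.1.1, ?_⟩, ⟨x.1.2, ?_⟩),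
      fun x => ⟨(x.1.1, x.2.1), ?_⟩, fun x => rfl, fun x => rfl⟩
    · have := x.2
      rw [MulAction.mem_fixedBy] at this ⊢
      exact congrArg Prod.fst this
    · have := x.2
      rw [MulAction.mem_fixedBy] at this ⊢
      exact congrArg Prod.snd this
    · rw [MulAction.mem_fixedBy]
      exact Prod.ext x.1.2 x.2.2
  have h7 : ∑ n : H, pC H X n * conj (pC H Y n) = (q : ℂ) * Nat.card H := by
    have h8 : ∀ n : H, pC H X n * conj (pC H Y n) = ((Fintype.card (MulAction.fixedBy (X × Y) n) : ℕ) : ℂ) := by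
      intro n
      rw [h6]
      simp only [pC, Complex.conj_natCast]
      push_cast
      ring
    rw [Finset.sum_congr rfl fun n _ => h8 n, ← Nat.cast_sum, h5, hq, Nat.card_eq_fintype_card,
      Nat.card_eq_fintype_card]
    push_cast
    ring
  rw [h7]
  have h8 : (Nat.card H : ℂ) ≠ 0 := card_ne_zero_complex
  field_simp

/-- at most `k` orbits, by representatives -/
theorem card_orbits_le {G X : Type*} [Group G] [MulAction G X] {k : ℕ} (r : Fin k → X)
    (hex : ∀ x, ∃ i, ∃ g : G, g • r i = x) : Nat.card (MulAction.orbitRel.Quotient G X) ≤ k := by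
  have h : Function.Surjective (fun i : Fin k => (Quotient.mk (MulAction.orbitRel G X) (r i) :
      MulAction.orbitRel.Quotient G X)) := by
    intro q
    induction q using Quotient.inductionOn with
    | h p =>
      obtain ⟨i, g, hg⟩ := hex p
      refine ⟨i, Quotient.sound ⟨g⁻¹, ?_⟩⟩
      show g⁻¹ • p = r i
      rw [← hg, inv_smul_smul]
  have h1 := Nat.card_le_card_of_surjective _ h
  rwa [Nat.card_eq_fintype_card (α := Fin k), Fintype.card_fin] at h1

/-- at least `k` orbits, by an invariant -/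
theorem le_card_orbits {G X : Type*} [Group G] [MulAction G X] [Finite X] {k : ℕ} (F : X → ℕ)
    (hinv : ∀ (g : G) x, F (g • x) = F x) (hs : ∀ i, i < k → ∃ x, F x = i) :
    k ≤ Nat.card (MulAction.orbitRel.Quotient G X) := by
  choose r hr using hs
  have h : Function.Injective (fun i : Fin k => (Quotient.mk (MulAction.orbitRel G X) (r i i.2) :
      MulAction.orbitRel.Quotient G X)) := by
    intro i j hij
    obtain ⟨g, hg⟩ := Quotient.exact hij
    have h1 : g • r j j.2 = r i i.2 := hg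
    have h2 := hinv g (r j j.2)
    rw [h1, hr i i.2, hr j j.2] at h2
    exact Fin.ext h2
  have h1 := Nat.card_le_card_of_injective _ h
  rwa [Nat.card_eq_fintype_card (α := Fin k), Fintype.card_fin] at h1

/-- a generalized character `f` with `⟨f, f⟩ = a - 2 b + c`, `a ≤ 4`, `3 ≤ b`, `c ≤ 3` and positive degree is irreducible -/
theorem irr_of_norm {G : Type*} [Group G] [Fintype G] {f : G → ℂ} (hf : IsGeneralizedCharacter G f) {a b c d : ℕ}
    (h : classInner f f = a - b - (b - c)) (ha : a ≤ 4) (hb : 3 ≤ b) (hc : c ≤ 3) (hd : f 1 = d) (hd0 : d ≠ 0) :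
    IsIrrCharacter G f := by
  have h1 : classInner f f = (((Nat.card G : ℝ)⁻¹ * ∑ g : G, Complex.normSq (f g) : ℝ) : ℂ) :=
    classInner_self_eq_ofReal f
  have h2 : (0 : ℝ) ≤ (Nat.card G : ℝ)⁻¹ * ∑ g : G, Complex.normSq (f g) :=
    mul_nonneg (inv_nonneg.2 (Nat.cast_nonneg _)) (Finset.sum_nonneg fun _ _ => Complex.normSq_nonneg _)
  have h3 : (((a : ℝ) - b - (b - c) : ℝ) : ℂ) = (((Nat.card G : ℝ)⁻¹ * ∑ g : G, Complex.normSq (f g) : ℝ) : ℂ) := by
    rw [← h1, h]
    push_cast
    ring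
  have h4 := Complex.ofReal_injective h3
  have h5 : (((a : ℤ) - b - (b - c) : ℤ) : ℝ) = (a : ℝ) - b - (b - c) := by push_cast; ring
  have h6 : (0 : ℤ) ≤ (a : ℤ) - b - (b - c) := by
    have : ((0 : ℤ) : ℝ) ≤ (((a : ℤ) - b - (b - c) : ℤ) : ℝ) := by
      rw [h5, h4]
      simpa using h2
    exact_mod_cast this
  have h7 : classInner f f ≠ 0 := by
    intro h0
    have h1' : (d : ℂ) = 0 := by
      rw [← hd, classInner_self_eq_zero h0]
      rfl
    exact hd0 (by exact_mod_cast h1')
  have h8 : (a : ℤ) - b - (b - c) ≠ 0 := by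
    intro h0
    apply h7
    rw [h]
    have : (((a : ℤ) - b - (b - c) : ℤ) : ℂ) = 0 := by rw [h0]; simp
    push_cast at this
    exact this
  have h9 : (a : ℤ) - b - (b - c) = 1 := by omega
  have h10 : classInner f f = 1 := by
    rw [h]
    have : (((a : ℤ) - b - (b - c) : ℤ) : ℂ) = 1 := by rw [h9]; simp
    push_cast at this
    exact this
  rcases isIrr_of_generalized hf h10 with hi | hi
  · exact hi
  · exfalso
    obtain ⟨n, ρ, -, hρ⟩ := hi
    have h11 := congrFun hρ 1
    rw [Representation.char_one, Module.finrank_fin_fun, Pi.neg_apply, hd] at h11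
    have h12 : ((n : ℝ) : ℂ) = ((-(d : ℝ) : ℝ) : ℂ) := by
      push_cast
      exact h11
    have h13 := Complex.ofReal_injective h12
    have h14 : (0 : ℝ) ≤ n := Nat.cast_nonneg n
    have h15 : (1 : ℝ) ≤ d := by exact_mod_cast Nat.one_le_iff_ne_zero.2 hd0
    linarith

/-- the octads -/
abbrev Oc : Type := {o : Finset GolayPt // o ∈ octads}

/-- the pairs of points -/
abbrev Pr : Type := {s : Finset GolayPt // s.card = 2}

instance : MulAction M24 Oc where
  smul g o := ⟨g • o.1, S0367.smul_mem_octads g o.1 o.2⟩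
  one_smul _ := Subtype.ext (one_smul _ _)
  mul_smul _ _ _ := Subtype.ext (mul_smul _ _ _)

instance : MulAction M24 Pr where
  smul g s := ⟨g • s.1, (Finset.card_smul_finset g s.1).trans s.2⟩
  one_smul _ := Subtype.ext (one_smul _ _)
  mul_smul _ _ _ := Subtype.ext (mul_smul _ _ _)

theorem coe_oc (g : M24) (o : Oc) : ((g • o : Oc) : Finset GolayPt) = g • (o : Finset GolayPt) := rfl

theorem coe_pr (g : M24) (s : Pr) : ((g • s : Pr) : Finset GolayPt) = g • (s : Finset GolayPt) := rfl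

theorem card_oc : Nat.card Oc = 759 := by
  have h := S0360.result
  rw [Set.ncard] at h
  exact h

theorem card_pr : Nat.card Pr = 276 := by
  rw [Nat.card_eq_fintype_card, Fintype.card_finset_len]
  simp [GolayPt]
  decide

/-- the second octads of the representatives -/
def rt : Fin 4 → ℕ := ![1009728, 31554, 10558, root 8]

theorem rt_mem (i : Fin 4) : fin (rt i) ∈ octads := by
  fin_cases i
  all_goals
    rw [fin_mem_octads_iff (by decide +kernel)]
    decide +kernel

theorem root_eq {k : ℕ} (h : fin (root k) ∈ octads) : ∃ i : Fin 4, root k = rt i := by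
  by_cases h0 : k = 0
  · exact ⟨0, by rw [h0]; rfl⟩
  by_cases h2 : k = 2
  · exact ⟨1, by rw [h2]; rfl⟩
  by_cases h4 : k = 4
  · exact ⟨2, by rw [h4]; rfl⟩
  by_cases h8 : k = 8
  · exact ⟨3, by rw [h8]; rfl⟩
  exfalso
  have h9 : root k = 0 := by
    unfold root
    split <;> simp_all
  have h10 := h.2
  rw [h9] at h10
  exact absurd h10 (by decide +kernel)

theorem orb_oo : Nat.card (MulAction.orbitRel.Quotient M24 (Oc × Oc)) ≤ 4 := by
  refine card_orbits_le (fun i : Fin 4 => ((⟨fin o0, o0_mem⟩, ⟨fin (rt i), rt_mem i⟩) : Oc × Oc)) ?_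
  rintro ⟨x, y⟩
  obtain ⟨g, hg⟩ := S0367.result x.1 (fin o0) x.2 o0_mem
  obtain ⟨h, hh, he⟩ := exists_to_root (g • y).2
  rw [mem_Stab] at hh
  obtain ⟨i, hi⟩ := root_eq (k := (fin o0 ∩ ((g • y : Oc) : Finset GolayPt)).card)
    (by rw [← he]; exact smul_mem_octads hh.1 (g • y).2)
  rw [hi] at he
  refine ⟨i, (⟨h, hh.1⟩ * g)⁻¹, ?_⟩
  rw [inv_smul_eq_iff]
  refine Prod.ext (Subtype.ext ?_) (Subtype.ext ?_)
  · show fin o0 = ((⟨h, hh.1⟩ : M24) * g) • x.1
    rw [mul_smul, hg]
    exact hh.2.symm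
  · show fin (rt i) = ((⟨h, hh.1⟩ : M24) * g) • y.1
    rw [mul_smul]
    exact he.symm

theorem orb_op : 3 ≤ Nat.card (MulAction.orbitRel.Quotient M24 (Oc × Pr)) := by
  refine le_card_orbits (fun x : Oc × Pr => (x.1.1 ∩ x.2.1).card) ?_ ?_
  · intro g x
    show (g • x.1.1 ∩ g • x.2.1).card = _
    rw [← Finset.smul_finset_inter, Finset.card_smul_finset]
  · intro i hi
    have h2 : (fin 96).card = 2 := by decide +kernel
    have h3 : (fin 33).card = 2 := by decide +kernel
    have h4 : (fin 3).card = 2 := by decide +kernel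
    interval_cases i
    · exact ⟨(⟨fin o0, o0_mem⟩, ⟨fin 96, h2⟩), (by decide +kernel : (fin o0 ∩ fin 96).card = 0)⟩
    · exact ⟨(⟨fin o0, o0_mem⟩, ⟨fin 33, h3⟩), (by decide +kernel : (fin o0 ∩ fin 33).card = 1)⟩
    · exact ⟨(⟨fin o0, o0_mem⟩, ⟨fin 3, h4⟩), (by decide +kernel : (fin o0 ∩ fin 3).card = 2)⟩

theorem inj4 {X : Type*} {a b c d : X} (hab : a ≠ b) (hac : a ≠ c) (had : a ≠ d) (hbc : b ≠ c) (hbd : b ≠ d)
    (hcd : c ≠ d) : Function.Injective ![a, b, c, d] := by
  intro i j hij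
  fin_cases i <;> fin_cases j <;> simp_all

theorem exists_four {a b c d a' b' c' d' : GolayPt} (hab : a ≠ b) (hac : a ≠ c) (had : a ≠ d) (hbc : b ≠ c)
    (hbd : b ≠ d) (hcd : c ≠ d) (hab' : a' ≠ b') (hac' : a' ≠ c') (had' : a' ≠ d') (hbc' : b' ≠ c')
    (hbd' : b' ≠ d') (hcd' : c' ≠ d') :
    ∃ g : M24, g • a = a' ∧ g • b = b' ∧ g • c = c' ∧ g • d = d' := by
  have h5 := S0366.result
  have h4 : MulAction.IsMultiplyPretransitive M24 GolayPt 4 :=
    MulAction.isMultiplyPretransitive_of_le (n := 5) (by norm_num) (by simp [GolayPt])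
  obtain ⟨g, hg⟩ := MulAction.exists_smul_eq M24 (⟨![a, b, c, d], inj4 hab hac had hbc hbd hcd⟩ : Fin 4 ↪ GolayPt)
    ⟨![a', b', c', d'], inj4 hab' hac' had' hbc' hbd' hcd'⟩
  refine ⟨g, ?_, ?_, ?_, ?_⟩
  · exact DFunLike.congr_fun hg 0
  · exact DFunLike.congr_fun hg 1
  · exact DFunLike.congr_fun hg 2
  · exact DFunLike.congr_fun hg 3

/-- the pair -/
def pr (x y : GolayPt) (h : x ≠ y) : Pr := ⟨{x, y}, Finset.card_pair h⟩

theorem smul_pr (g : M24) {x y x' y' : GolayPt} (h : x ≠ y) (h' : x' ≠ y') (hx : g • x = x') (hy : g • y = y') :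
    g • pr x y h = pr x' y' h' := by
  refine Subtype.ext ?_
  show g • ({x, y} : Finset GolayPt) = {x', y'}
  rw [Finset.smul_finset_insert, Finset.smul_finset_singleton, hx, hy]

theorem orb_pp : Nat.card (MulAction.orbitRel.Quotient M24 (Pr × Pr)) ≤ 3 := by
  obtain ⟨a, b, c, d, hab, hac, had, hbc, hbd, hcd⟩ : ∃ a b c d : GolayPt, a ≠ b ∧ a ≠ c ∧ a ≠ d ∧ b ≠ c ∧ b ≠ d ∧
      c ≠ d := ⟨none, some 0, some 1, some 2, by decide +kernel⟩
  refine card_orbits_le ![(pr a b hab, pr a b hab), (pr a b hab, pr a c hac), (pr a b hab, pr c d hcd)] ?_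
  rintro ⟨s, t⟩
  obtain ⟨x, y, hxy, hs⟩ := Finset.card_eq_two.1 s.2
  have es : s = pr x y hxy := Subtype.ext hs
  obtain ⟨z, w, hzw, ht⟩ := Finset.card_eq_two.1 t.2
  have et : t = pr z w hzw := Subtype.ext ht
  have comm : ∀ {u v : GolayPt} (h : u ≠ v), pr u v h = pr v u h.symm := fun h => Subtype.ext (Finset.pair_comm _ _)
  have key1 : ∀ {x y : GolayPt} (h : x ≠ y), ∃ i, ∃ g : M24, g • (![(pr a b hab, pr a b hab), (pr a b hab, pr a c hac),
      (pr a b hab, pr c d hcd)] : Fin 3 → Pr × Pr) i = (pr x y h, pr x y h) := by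
    intro x y h
    obtain ⟨z, hz⟩ := Finset.exists_mem_notMem_of_card_lt_card (s := {x, y}) (t := (Finset.univ : Finset GolayPt))
      (by rw [Finset.card_pair h]; simp [GolayPt])
    obtain ⟨w, hw⟩ := Finset.exists_mem_notMem_of_card_lt_card (s := {x, y, z}) (t := (Finset.univ : Finset GolayPt))
      (lt_of_le_of_lt Finset.card_le_three (by simp [GolayPt]))
    simp only [Finset.mem_univ, Finset.mem_insert, Finset.mem_singleton, true_and, not_or] at hz hw
    obtain ⟨g, h1, h2, -, -⟩ := exists_four hab hac had hbc hbd hcd h (Ne.symm hz.1) (Ne.symm hw.1) (Ne.symm hz.2)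
      (Ne.symm hw.2.1) (Ne.symm hw.2.2)
    exact ⟨0, g, Prod.ext (smul_pr g hab h h1 h2) (smul_pr g hab h h1 h2)⟩
  have key2 : ∀ {x y z : GolayPt} (h : x ≠ y) (h' : x ≠ z), y ≠ z → ∃ i, ∃ g : M24, g • (![(pr a b hab, pr a b hab),
      (pr a b hab, pr a c hac), (pr a b hab, pr c d hcd)] : Fin 3 → Pr × Pr) i = (pr x y h, pr x z h') := by
    intro x y z h h' hyz
    obtain ⟨w, hw⟩ := Finset.exists_mem_notMem_of_card_lt_card (s := {x, y, z}) (t := (Finset.univ : Finset GolayPt))
      (lt_of_le_of_lt Finset.card_le_three (by simp [GolayPt]))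
    simp only [Finset.mem_univ, Finset.mem_insert, Finset.mem_singleton, true_and, not_or] at hw
    obtain ⟨g, h1, h2, h3, -⟩ := exists_four hab hac had hbc hbd hcd h h' (Ne.symm hw.1) hyz
      (Ne.symm hw.2.1) (Ne.symm hw.2.2)
    exact ⟨1, g, Prod.ext (smul_pr g hab h h1 h2) (smul_pr g hac h' h1 h3)⟩
  rw [es, et]
  by_cases hxz : x = z
  · subst hxz
    by_cases hyw : y = w
    · subst hyw
      exact key1 hxy
    · exact key2 hxy hzw hyw
  · by_cases hxw : x = w
    · subst hxw
      rw [comm hzw]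
      by_cases hyz : y = z
      · subst hyz
        exact key1 hxy
      · exact key2 hxy hzw.symm hyz
    · by_cases hyz : y = z
      · subst hyz
        rw [comm hxy]
        exact key2 hxy.symm hzw hxw
      · by_cases hyw : y = w
        · subst hyw
          rw [comm hxy, comm hzw]
          exact key2 hxy.symm hzw.symm hxz
        · obtain ⟨g, h1, h2, h3, h4⟩ := exists_four hab hac had hbc hbd hcd hxy hxz hxw hyz hyw hzw
          exact ⟨2, g, Prod.ext (smul_pr g hab hxy h1 h2) (smul_pr g hcd hzw h3 h4)⟩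

/-- **an irreducible character of degree 483 of `M₂₄`** -/
theorem exists_483 : ∃ χ : IrrCharacter M24, charDegree (χ : M24 → ℂ) = 483 := by
  classical
  have hfin : Finite M24 := inferInstance
  have := Fintype.ofFinite M24
  have hg : IsGeneralizedCharacter M24 (pC M24 Oc - pC M24 Pr) :=
    ⟨_, _, S0157.isCharacter_fixedBy Oc, S0157.isCharacter_fixedBy Pr, rfl⟩
  have h1 : (pC M24 Oc - pC M24 Pr) 1 = ((483 : ℕ) : ℂ) := by
    rw [Pi.sub_apply, pC_one, pC_one, card_oc, card_pr]
    norm_num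
  have hs : classInner (pC M24 Pr) (pC M24 Oc) = classInner (pC M24 Oc) (pC M24 Pr) := by
    rw [← classInner_conj_symm, classInner_pC, Complex.conj_natCast]
  have hn : classInner (pC M24 Oc - pC M24 Pr) (pC M24 Oc - pC M24 Pr) =
      (Nat.card (MulAction.orbitRel.Quotient M24 (Oc × Oc)) : ℂ) -
      Nat.card (MulAction.orbitRel.Quotient M24 (Oc × Pr)) -
      (Nat.card (MulAction.orbitRel.Quotient M24 (Oc × Pr)) -
      Nat.card (MulAction.orbitRel.Quotient M24 (Pr × Pr))) := by
    rw [classInner_sub_left, classInner_sub_right, classInner_sub_right, hs, classInner_pC, classInner_pC,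
      classInner_pC]
  have hi := irr_of_norm hg hn orb_oo orb_op orb_pp h1 (by norm_num)
  refine ⟨⟨_, hi⟩, ?_⟩
  show charDegree (pC M24 Oc - pC M24 Pr) = 483
  rw [charDegree, h1]
  simp

section

open Subgroup

theorem zpowers_cent {G : Type*} [Group G] (x : G) :
    centralizer ((zpowers x : Subgroup G) : Set G) = centralizer ({x} : Set G) := by
  rw [zpowers_eq_closure, centralizer_closure]

theorem prime_cases {q : ℕ} (h1 : q.Prime) (h2 : q ∣ 244823040) :
    q = 2 ∨ q = 3 ∨ q = 5 ∨ q = 7 ∨ q = 11 ∨ q = 23 := by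
  rw [show 244823040 = 2 ^ 10 * 3 ^ 3 * 5 * 7 * 11 * 23 by norm_num] at h2
  have key : ∀ r : ℕ, r.Prime → ∀ k, q ∣ r ^ k → q = r := fun r hr k h =>
    (Nat.prime_dvd_prime_iff_eq h1 hr).1 (h1.dvd_of_dvd_pow h)
  have key1 : ∀ r : ℕ, r.Prime → q ∣ r → q = r := fun r hr h => (Nat.prime_dvd_prime_iff_eq h1 hr).1 h
  simp only [Nat.Prime.dvd_mul h1] at h2
  rcases h2 with ((((h2 | h2) | h2) | h2) | h2) | h2
  · exact Or.inl (key 2 (by norm_num) 10 h2)
  · exact Or.inr (Or.inl (key 3 (by norm_num) 3 h2))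
  · exact Or.inr (Or.inr (Or.inl (key1 5 (by norm_num) h2)))
  · exact Or.inr (Or.inr (Or.inr (Or.inl (key1 7 (by norm_num) h2))))
  · exact Or.inr (Or.inr (Or.inr (Or.inr (Or.inl (key1 11 (by norm_num) h2)))))
  · exact Or.inr (Or.inr (Or.inr (Or.inr (Or.inr (key1 23 (by norm_num) h2)))))

theorem cent_w (y : M24) {n r : ℕ} (hy : orderOf y = r)
    (h : ∀ R : Subgroup M24, Nat.card R = r → Nat.card (centralizer (R : Set M24)) = n) :
    Nat.card (centralizer ({y} : Set M24)) = n := by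
  have h1 := h (zpowers y) (by rw [Nat.card_zpowers, hy])
  rwa [zpowers_cent] at h1

theorem not_nine (y : M24) (hy : (orderOf y).Prime) (h3 : orderOf y ≠ 3) :
    ¬ 9 ∣ Nat.card (centralizer ({y} : Set M24)) := by
  have hc : Nat.card M24 = 244823040 := Cfsg.Agent.SporadicA.M24Trans.card_M24
  have hfin : Finite M24 := Nat.finite_of_card_ne_zero (by rw [hc]; norm_num)
  rcases prime_cases hy (by rw [← hc]; exact orderOf_dvd_natCard y) with h | h | h | h | h | h
  · have h2 : y * y = 1 := by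
      have := pow_orderOf_eq_one y
      rwa [h, pow_two] at this
    have h1 : y ≠ 1 := by
      rintro rfl
      rw [orderOf_one] at h
      omega
    rcases KFacts.M24Two.Count.conj_or y h2 h1 with ⟨g, hg⟩ | ⟨g, hg⟩
    · obtain ⟨g', hg'⟩ := KFacts.M24Two.CentZ.conj_z
      rw [KFacts.M24Two.CentZ.card_centralizer_conj hg, ← KFacts.M24Two.CentZ.card_centralizer_conj hg',
        show Nat.card (centralizer ({KFacts.M24Two.CentZ.z} : Set M24)) = 21504 from KFacts.M24Two.CentZ.card_C]
      norm_num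
    · rw [KFacts.M24Two.CentZ.card_centralizer_conj hg, KFacts.M24Two.Orders.card_centralizer_w]
      norm_num
  · exact absurd h h3
  · rw [cent_w y h fun R hR => (H715.Fpr.MathData.cn24_5 hR).1]
    norm_num
  · rw [cent_w y h fun R hR => (H715.Fpr.MathData.cn24_7 hR).1]
    norm_num
  · rw [cent_w y h fun R hR => (H715.Fpr.MathData.cn24_11 hR).1]
    norm_num
  · rw [cent_w y h fun R hR => (H715.Fpr.MathData.cn24_23 hR).1]
    norm_num

end

theorem nb3 : H709.PB.NB 3 2 M24 := by
  have h3 : Fact (Nat.Prime 3) := ⟨Nat.prime_three⟩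
  exact H709.PB.NB.of_orders (a := 3) (by rw [Cfsg.Agent.SporadicA.M24Trans.card_M24]; norm_num)
    fun y h1 h2 => not_nine y h1 h2

theorem exists_deg : ∃ χ : IrrCharacter M24, 3 ∣ charDegree (χ : M24 → ℂ) ∧ ¬ 3 ^ 2 ∣ charDegree (χ : M24 → ℂ) := by
  obtain ⟨χ, hχ⟩ := exists_483
  exact ⟨χ, by rw [hχ]; norm_num, by rw [hχ]; norm_num⟩

/-- **`s.M24.3`** -/
theorem row_m24_3 {S : Type*} [Group S] (h : Spor.IsoM24 S) : H316.HT.Row 3 S := by
  obtain ⟨e⟩ := h
  have : Fact (Nat.Prime 3) := ⟨Nat.prime_three⟩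
  refine H488.HT.row_congr e (H488.HT.row_of_nb (p := 3) (S := M24) ?_ nb3 exists_deg)
  rw [S2064.result]
  norm_num

end Cfsg.Agent.H188.HT.M24
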