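import Cfsg.Agent.H188.HT.SporThree
import Cfsg.Agent.H488.HT.Tool
import Cfsg.Agent.S2079
import Cfsg.Agent.S2081

/-!
# S4933: the rows `s.Fi22.3` and `s.Fi24.3` (helper188)

Rank 3 permutation characters: `429 = 3 · 143` and `57477 = 3 · 19159` lie in the principal 3-block; `|Out| = 2`.
-/

set_option autoImplicit false

open Cfsg

namespace Cfsg.Agent.H188.HT.Fi

open Cfsg.Agent.H619.BD

/-- the row from a member of the principal block of degree `p m`, `p ∤ m` -/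
theorem row_of_b0d {p : ℕ} [hp : Fact p.Prime] {S : Type*} [Group S] {d m : ℕ} (hout : ¬ p ∣ Nat.card (Cfsg.Out S))
    (h : B0D p S d) (hd : d = p * m) (hm : ¬ p ∣ m) : H316.HT.Row p S := by
  obtain ⟨χ, h1, h2⟩ := h
  refine H488.HT.row_of_one hout fun M hM => ⟨χ, h1 M hM, ?_⟩
  have hm0 : m ≠ 0 := fun h0 => hm (h0 ▸ dvd_zero p)
  rw [H316.HT.vd, h2, hd, Nat.factorization_mul hp.out.ne_zero hm0, Finsupp.add_apply, hp.out.factorization_self,
    Nat.factorization_eq_zero_of_not_dvd hm]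

/-- **`s.Fi22.3`** -/
theorem row_fi22_3 {S : Type*} [Group S] (h : Spor.IsoFi22 S) : H316.HT.Row 3 S := by
  obtain ⟨e⟩ := h
  have h3 : Fact (Nat.Prime 3) := ⟨Nat.prime_three⟩
  refine H488.HT.row_congr e (row_of_b0d (p := 3) (S := Spor.Fi22) (d := 429) (m := 143) ?_
    (b0d_fi22 ⟨MulEquiv.refl _⟩) (by norm_num) (by norm_num))
  rw [show Nat.card (Cfsg.Out Spor.Fi22) = 2 from S2079.result]
  norm_num

/-- **`s.Fi24.3`** -/
theorem row_fi24_3 {S : Type*} [Group S] (h : Spor.IsoFi24' S) : H316.HT.Row 3 S := by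
  obtain ⟨e⟩ := h
  have h3 : Fact (Nat.Prime 3) := ⟨Nat.prime_three⟩
  refine H488.HT.row_congr e (row_of_b0d (p := 3) (S := Spor.Fi24') (d := 57477) (m := 19159) ?_
    (b0d_fi24 ⟨MulEquiv.refl _⟩) (by norm_num) (by norm_num))
  rw [show Nat.card (Cfsg.Out Spor.Fi24') = 2 from S2081.result]
  norm_num

end Cfsg.Agent.H188.HT.Fi
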