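import Cfsg.Agent.H703.K6.SporFi
import Cfsg.Agent.H968.Imc.RankThreeRat
import Cfsg.Agent.H689.EB.RowSuz

/-!
# S4933, `p = 3`: characters of height one in the principal block of `Fi22`, `Fi24'`, `Suz` (helper188)

`429`, `57477`, `780` (rank 3 permutation characters).
-/

set_option autoImplicit false
set_option linter.unusedSectionVars false

open Cfsg

namespace Cfsg.Agent.H188.HT

open Cfsg.Agent.Characters Cfsg.Agent.Characters.Core Cfsg.Agent.Fischer.Abstract Cfsg.Agent.LThreeM.SrgFix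
open Cfsg.Agent.H690.Spor.RankThree Cfsg.Agent.H187.FiTwoZ
open Cfsg.Agent.H61.K6 Cfsg.Agent.H619.BD Cfsg.Agent.H703.K6

universe u v w

/-- both constituents of a rank 3 permutation character, in the form `R3` -/
theorem b0d_of_r3 {G : Type u} [Group G] [Finite G] {X : Type v} [MulAction G X] {R : X → X → Prop} {k l : ℕ}
    (h : R3 G X R k l) {p a b e : ℕ}
    (hc : H968.Imc.chkP k l (fun x y => (decide (x = a) && decide (y = b)) || (decide (x = b) && decide (y = a))) = true)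
    (he : p ^ e ∣ 1 + a + b) (h1 : 1 % p ^ e ≠ 0) (h2 : (1 + a) % p ^ e ≠ 0) (h3 : (1 + b) % p ^ e ≠ 0) :
    B0D p G a ∧ B0D p G b := by
  have hX : Finite X := Nat.finite_of_card_ne_zero (by rw [h.cardn]; omega)
  have hne : Nonempty X := by
    rw [← not_isEmpty_iff]
    intro hE
    have h1 := h.cardn
    rw [Nat.card_of_isEmpty] at h1
    omega
  obtain ⟨x₀⟩ := hne
  have htr := h.trans
  obtain ⟨χ₁, χ₂, -, -, hπ, hQ⟩ := H968.Imc.exists_pair h _ hc
  rw [Bool.or_eq_true, Bool.and_eq_true, Bool.and_eq_true, decide_eq_true_eq, decide_eq_true_eq, decide_eq_true_eq,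
    decide_eq_true_eq] at hQ
  have d1 : ((charDegree (χ₁ : G → ℂ) : ℕ) : ℂ) = (χ₁ : G → ℂ) 1 := (Cfsg.Agent.Blocks.Knorr.charDegree_eq χ₁.2).symm
  have d2 : ((charDegree (χ₂ : G → ℂ) : ℕ) : ℂ) = (χ₂ : G → ℂ) 1 := (Cfsg.Agent.Blocks.Knorr.charDegree_eq χ₂.2).symm
  rcases hQ with ⟨q1, q2⟩ | ⟨q1, q2⟩
  · exact b0d_rank_three x₀ (d1.symm.trans (by rw [q1])) (d2.symm.trans (by rw [q2])) hπ he h1 h2 h3
  · have := b0d_rank_three (a := b) (b := a) x₀ (d1.symm.trans (by rw [q1])) (d2.symm.trans (by rw [q2])) hπ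
      (by rwa [show 1 + b + a = 1 + a + b by ring]) h1 h3 h2
    exact ⟨this.2, this.1⟩

/-- **`Fi22`, `p = 3`**: `429 = 3 · 143` -/
theorem b0d_fi22 {S : Type v} [Group S] (h : Cfsg.Spor.IsoFi22 S) : B0D 3 S 429 := by
  obtain ⟨e⟩ := h
  let T : Type := ↥(⊤ : Subgroup Cfsg.Agent.Fischer.Group22.G)
  let f : T ≃* Spor.Fi22 := Subgroup.topEquiv.trans Cfsg.Agent.R01.Fi22Facts.E
  have hcT : Nat.card T = 64561751654400 := Cfsg.Agent.H713.Spor.Fi22.card_fi22 f
  have hfT : Finite T := Nat.finite_of_card_ne_zero (by rw [hcT]; norm_num)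
  obtain ⟨h1, -⟩ := b0d_of_rank3 Cfsg.Agent.Fischer.Rank22.R ⊤ same_top (k := 693) (l := 2816) (m := 126)
    Cfsg.Agent.LThreeM.FiTwo.nb_card Cfsg.Agent.LThreeM.FiTwo.cn_b (by rw [Nat.card_eq_fintype_card, Fintype.card_fin])
    (by norm_num) (by norm_num) (r := 63) (s := -9) (by norm_num) (by norm_num) (by norm_num) (f := 429) (g := 3080)
    (by norm_num) (by norm_num) (p := 3) (e := 3) (by norm_num) (by norm_num) (by norm_num) (by norm_num)
  exact B0D.congr (f.trans e.symm) h1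

/-- **`Fi24'`, `p = 3`**: `57477 = 3 · 19159` -/
theorem b0d_fi24 {S : Type v} [Group S] (h : Cfsg.Spor.IsoFi24' S) : B0D 3 S 57477 := by
  classical
  obtain ⟨e⟩ := h
  have hfinT := finite_fi24'
  have e' : S ≃* ↥(commutator Cfsg.Spor.Fi24) := e
  have hfin : Finite Cfsg.Spor.Fi24 := Cfsg.Agent.R08.FiTwentyFour.finite_Fi24
  obtain ⟨R, -, -, hR⟩ := Cfsg.Agent.R08.FiTwentyFour.facts.exists_rank3
  have hcX := Cfsg.Agent.H711.FiEven.card_X R hR
  have hsame : Same (commutator Cfsg.Spor.Fi24) (Cfsg.Spor.Fi24 ⧸ Cfsg.Agent.Fischer.Fi24RepOrb.H) :=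
    same_of R _ Cfsg.Agent.R08.FiTwentyFour.index_commutator
      (fun x => Cfsg.Agent.R08.FiTwentyFour.odd (by rw [← hR]; exact ⟨x, rfl⟩)) (fi24_common R hR)
  obtain ⟨h1, -⟩ := b0d_of_rank3 R (commutator Cfsg.Spor.Fi24) hsame (k := 31671) (l := 275264) (m := 3240)
    (Cfsg.Agent.H711.FiEven.nb_card R hR) (Cfsg.Agent.H711.FiEven.cb_card R hR) hcX
    (by norm_num) (by norm_num) (r := 351) (s := -81) (by norm_num) (by norm_num) (by norm_num)
    (f := 57477) (g := 249458) (by norm_num) (by norm_num) (p := 3) (e := 3) (by norm_num) (by norm_num)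
    (by norm_num) (by norm_num)
  exact B0D.congr e'.symm h1

/-- **`Suz`, `p = 3`**: `780 = 3 · 260` -/
theorem b0d_suz {S : Type v} [Group S] (h : Cfsg.Spor.IsoSuz S) : B0D 3 S 780 := by
  obtain ⟨e⟩ := h
  have hfin : Finite Spor.Suz := Nat.finite_of_card_ne_zero (by
    rw [Cfsg.Agent.SporadicRecognition.SuzOrder.card_Suz]; norm_num)
  let _ := H689.EB.Suz.act
  exact B0D.congr e.symm (b0d_of_r3 (H689.EB.Suz.rank3.toR3 (by norm_num) (by norm_num)) (p := 3) (a := 780) (b := 1001) (e := 4) (by decide +kernel) (by norm_num)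
    (by norm_num) (by norm_num) (by norm_num)).1

end Cfsg.Agent.H188.HT
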